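import Mathlib
import Cfsg.Agent.H198.FC.Defs

/-!
# S5764: Skolem-Noether with semilinear maps (helper277)

`stmtSN`: every ring automorphism of `End_K(V)` is induced by a semilinear bijection.
`stmtSNcor`: every ring anti-automorphism is induced by a correlation `V → V*`.
General form `exists_semilinear`: ring isomorphisms `End_K(V) ≃ End_K(W)`.
-/

set_option autoImplicit false

namespace Cfsg.Agent.H277.FC

open Module Cfsg.Agent.H198.FC

universe u v w

section general

variable {K : Type u} [Field K] {V : Type v} [AddCommGroup V] [Module K V] {W : Type w} [AddCommGroup W] [Module K W]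

theorem exists_dual_one {v : V} (hv : v ≠ 0) : ∃ φ : Dual K V, φ v = 1 := by
  have h : ∃ φ : Dual K V, φ v ≠ 0 := by
    by_contra hcon
    push Not at hcon
    exact hv ((Module.forall_dual_apply_eq_zero_iff K v).1 hcon)
  obtain ⟨φ, hφ⟩ := h
  exact ⟨(φ v)⁻¹ • φ, by rw [LinearMap.smul_apply, smul_eq_mul, inv_mul_cancel₀ hφ]⟩

/-- rank one endomorphisms -/
def rk (φ : Dual K V) (v : V) : Module.End K V := φ.smulRight v

theorem rk_apply (φ : Dual K V) (v w : V) : rk φ v w = φ w • v := rfl

theorem mul_rk (φ : Dual K V) (v : V) (X : Module.End K V) : X * rk φ v = rk φ (X v) := by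
  ext w
  rw [Module.End.mul_apply, rk_apply, map_smul, rk_apply]

theorem rk_add (φ : Dual K V) (v w : V) : rk φ (v + w) = rk φ v + rk φ w := by
  ext t
  rw [LinearMap.add_apply, rk_apply, rk_apply, rk_apply, smul_add]

/-- an endomorphism commuting with all others is a homothety -/
theorem exists_smul_one [Nontrivial V] (Z : Module.End K V) (hZ : ∀ Y, Z * Y = Y * Z) :
    ∃ b : K, Z = b • (1 : Module.End K V) := by
  obtain ⟨v, hv⟩ := exists_ne (0 : V)
  obtain ⟨φ, hφ⟩ := exists_dual_one (K := K) hv
  refine ⟨φ (Z v), ?_⟩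
  ext w
  have h := LinearMap.congr_fun (hZ (rk φ w)) v
  rw [Module.End.mul_apply, Module.End.mul_apply, rk_apply, rk_apply, hφ, one_smul] at h
  rw [h]
  rfl

theorem smul_one_inj [Nontrivial V] {a b : K} (h : a • (1 : Module.End K V) = b • (1 : Module.End K V)) : a = b :=
  smul_left_injective K (one_ne_zero (α := Module.End K V)) h

theorem smul_one_comm (a : K) (Y : Module.End K V) :
    (a • (1 : Module.End K V)) * Y = Y * (a • (1 : Module.End K V)) := by
  rw [smul_mul_assoc, one_mul, mul_smul_comm, mul_one]

/-- the image of a homothety -/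
theorem exists_image [Nontrivial W] (F : Module.End K V ≃+* Module.End K W) (a : K) :
    ∃ b : K, F (a • (1 : Module.End K V)) = b • (1 : Module.End K W) := by
  refine exists_smul_one _ fun Y => ?_
  obtain ⟨X, rfl⟩ := F.surjective Y
  rw [← map_mul, ← map_mul, smul_one_comm]

/-- the field automorphism of a ring isomorphism -/
theorem exists_sigma [Nontrivial V] [Nontrivial W] (F : Module.End K V ≃+* Module.End K W) :
    ∃ σ : K ≃+* K, ∀ a, F (a • (1 : Module.End K V)) = σ a • (1 : Module.End K W) := by
  choose s hs using exists_image F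
  choose t ht using exists_image F.symm
  refine ⟨{ toFun := s, invFun := t, left_inv := ?_, right_inv := ?_, map_mul' := ?_, map_add' := ?_ }, hs⟩
  · intro a
    apply smul_one_inj (V := V)
    rw [← ht, ← hs, RingEquiv.symm_apply_apply]
  · intro a
    apply smul_one_inj (V := W)
    rw [← hs, ← ht, RingEquiv.apply_symm_apply]
  · intro a b
    apply smul_one_inj (V := W)
    have h1 : (a * b) • (1 : Module.End K V) = (a • (1 : Module.End K V)) * (b • (1 : Module.End K V)) := by
      rw [smul_mul_smul_comm, one_mul]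
    rw [← hs, h1, map_mul, hs, hs, smul_mul_smul_comm, one_mul]
  · intro a b
    apply smul_one_inj (V := W)
    rw [← hs, add_smul, map_add, hs, hs, add_smul]

/-- **Skolem-Noether**: a ring isomorphism `End_K(V) ≃ End_K(W)` is induced by a semilinear bijection `V → W`. -/
theorem exists_semilinear [Nontrivial V] [Nontrivial W] (F : Module.End K V ≃+* Module.End K W) :
    ∃ (σ : K ≃+* K) (g : V ≃+ W), (∀ (a : K) (v : V), g (a • v) = σ a • g v) ∧
      ∀ (X : Module.End K V) (v : V), F X (g v) = g (X v) := by
  obtain ⟨σ, hσ⟩ := exists_sigma F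
  obtain ⟨v₀, hv₀⟩ := exists_ne (0 : V)
  obtain ⟨φ, hφ⟩ := exists_dual_one (K := K) hv₀
  have hE : rk φ v₀ ≠ 0 := by
    intro h
    have h1 := LinearMap.congr_fun h v₀
    rw [rk_apply, hφ, one_smul] at h1
    exact hv₀ h1
  have hEE : rk φ v₀ * rk φ v₀ = rk φ v₀ := by
    rw [mul_rk, rk_apply, hφ, one_smul]
  have hFE : F (rk φ v₀) ≠ 0 := fun h => hE (F.injective (h.trans (map_zero F).symm))
  obtain ⟨w₀, hw₀⟩ : ∃ w, F (rk φ v₀) w ≠ 0 := by
    by_contra hcon
    push Not at hcon
    exact hFE (LinearMap.ext hcon)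
  set u := F (rk φ v₀) w₀ with hu
  have huE : F (rk φ v₀) u = u := by
    rw [hu, ← Module.End.mul_apply, ← map_mul, hEE]
  let g0 : V →+ W :=
    { toFun := fun v => F (rk φ v) u
      map_zero' := by
        have : rk φ (0 : V) = 0 := by
          ext w
          rw [rk_apply, smul_zero]
          rfl
        rw [this, map_zero]
        rfl
      map_add' := fun v w => by rw [rk_add, map_add]; rfl }
  have hg0 : ∀ (X : Module.End K V) (v : V), F X (g0 v) = g0 (X v) := by
    intro X v
    show F X (F (rk φ v) u) = F (rk φ (X v)) u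
    rw [← Module.End.mul_apply, ← map_mul, mul_rk]
  have hgv₀ : g0 v₀ = u := huE
  have hinj : Function.Injective g0 := by
    rw [injective_iff_map_eq_zero]
    intro v hv
    by_contra hne
    obtain ⟨ψ, hψ⟩ := exists_dual_one (K := K) hne
    have h := hg0 (rk ψ v₀) v
    rw [hv, map_zero, rk_apply, hψ, one_smul, hgv₀] at h
    exact hw₀ h.symm
  have hsurj : Function.Surjective g0 := by
    intro w
    obtain ⟨ψ, hψ⟩ := exists_dual_one (K := K) hw₀
    obtain ⟨X, hX⟩ := F.surjective (rk ψ w)
    refine ⟨X v₀, ?_⟩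
    rw [← hg0, hgv₀, hX, rk_apply, hψ, one_smul]
  refine ⟨σ, AddEquiv.ofBijective g0 ⟨hinj, hsurj⟩, fun a v => ?_, hg0⟩
  show g0 (a • v) = σ a • g0 v
  have h := hg0 (a • (1 : Module.End K V)) v
  rw [hσ] at h
  exact h.symm

end general

/-- **StmtSN**. -/
theorem stmtSN : StmtSN.{u, v} := by
  intro K _ V _ _ _ hV f hf
  have : Nontrivial V := Module.nontrivial_of_finrank_pos (R := K) (by omega)
  let F : Module.End K V ≃+* Module.End K V :=
    { f with
      map_mul' := hf.2
      map_add' := hf.1 }
  obtain ⟨σ, g, hg, hF⟩ := exists_semilinear F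
  exact ⟨g.toEquiv, ⟨fun v w => map_add g v w, σ, hg⟩, hF⟩

/-- **StmtSNcor**. -/
theorem stmtSNcor : StmtSNcor.{u, v} := by
  intro K _ V _ _ _ hV f hf hanti
  have : Nontrivial V := Module.nontrivial_of_finrank_pos (R := K) (by omega)
  have hdual : Nontrivial (Dual K V) := by
    obtain ⟨v, hv⟩ := exists_ne (0 : V)
    obtain ⟨φ, hφ⟩ := exists_dual_one (K := K) hv
    refine ⟨φ, 0, fun h => ?_⟩
    rw [h] at hφ
    exact zero_ne_one hφ
  have hbij : Function.Bijective (fun X : Module.End K V => ((f X).dualMap : Module.End K (Dual K V))) := by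
    have h1 : Function.Bijective (fun X : Module.End K V => (X.dualMap : Module.End K (Dual K V))) := by
      constructor
      · intro X Y h
        have h2 : X.dualMap = Y.dualMap := h
        ext v
        have h3 : ∀ φ : Dual K V, φ (X v - Y v) = 0 := by
          intro φ
          rw [map_sub]
          have h4 := LinearMap.congr_fun (LinearMap.congr_fun h2 φ) v
          rw [LinearMap.dualMap_apply, LinearMap.dualMap_apply] at h4
          rw [h4, sub_self]
        exact sub_eq_zero.1 ((Module.forall_dual_apply_eq_zero_iff K _).1 h3)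
      · intro Y
        let e := Module.evalEquiv K V
        refine ⟨(e.symm : Dual K (Dual K V) →ₗ[K] V) ∘ₗ Y.dualMap ∘ₗ (e : V →ₗ[K] Dual K (Dual K V)), ?_⟩
        ext φ v
        show φ (e.symm (Y.dualMap (e v))) = Y φ v
        rw [Module.apply_evalEquiv_symm_apply]
        rfl
    exact h1.comp f.bijective
  let F : Module.End K V ≃+* Module.End K (Dual K V) :=
    { Equiv.ofBijective _ hbij with
      map_mul' := fun X Y => by
        show (f (X * Y)).dualMap = (f X).dualMap * (f Y).dualMap
        rw [hanti]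
        rfl
      map_add' := fun X Y => by
        show (f (X + Y)).dualMap = (f X).dualMap + (f Y).dualMap
        rw [hf.1]
        ext φ v
        show φ ((f X + f Y) v) = _
        rw [LinearMap.add_apply, map_add]
        rfl }
  obtain ⟨σ, g, hg, hF⟩ := exists_semilinear F
  refine ⟨σ, g, hg, fun X v w => ?_⟩
  rw [← hF X v]
  rfl

end Cfsg.Agent.H277.FC
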